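import Groth.Agent.Lib.PicLift3.Algebraize
import Groth.Agent.Lib.FGA3.TorsionLift
import Groth.Agent.Lib.FGA3.FormalTriv
import Groth.Agent.Lib.PicThick4.Main

/-!
# Roots of invertible modules on a proper scheme over a complete local ring

For `n` invertible, an `n`-th root on the closed fibre of an invertible module lifts to a root.
-/

set_option autoImplicit false
set_option linter.style.haveILetI false
set_option backward.isDefEq.respectTransparency false

universe u

open CategoryTheory CategoryTheory.Limits AlgebraicGeometry IsLocalRing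

namespace Groth.Agent.PicRoot32

open FGA3 PicLift3

/-- The kernel of a base change of a closed immersion. -/
theorem ker_of_isPullback {W X Y Z : Scheme.{u}} {i : W ⟶ X} {y : W ⟶ Y} {f : X ⟶ Z} {j : Y ⟶ Z}
    [IsClosedImmersion j] (h : IsPullback i y f j) : i.ker = j.ker.comap f := by
  rw [← Scheme.IdealSheafData.ker_fst_of_isClosedImmersion, ← h.isoPullback_hom_fst,
    Scheme.Hom.ker_comp_of_isIso]

/-- A surjection with square zero kernel cuts out a square zero ideal sheaf. -/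
theorem ker_specMap_sq {S S₀ : Type u} [CommRing S] [CommRing S₀] (q : S →+* S₀) (hq : Function.Surjective q)
    (hsq : RingHom.ker q * RingHom.ker q = ⊥) :
    (Spec.map (CommRingCat.ofHom q)).ker * (Spec.map (CommRingCat.ofHom q)).ker = ⊥ := by
  haveI : IsClosedImmersion (Spec.map (CommRingCat.ofHom q)) := IsClosedImmersion.spec_of_surjective _ hq
  refine Scheme.IdealSheafData.ext_of_isAffine ?_
  simp only [Scheme.IdealSheafData.ideal_mul, Pi.mul_apply, Scheme.Hom.ker_apply, Scheme.IdealSheafData.ideal_bot,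
    Pi.bot_apply]
  refine le_bot_iff.1 (Ideal.mul_le.2 fun a ha b hb => ?_)
  have hmem : ∀ a : Γ(Spec (CommRingCat.of S), ⊤), a ∈ RingHom.ker ((Spec.map (CommRingCat.ofHom q)).app ⊤).hom →
      (Scheme.ΓSpecIso (CommRingCat.of S)).hom a ∈ RingHom.ker q := fun a ha => by
    have h := ConcreteCategory.congr_hom (Scheme.ΓSpecIso_naturality (CommRingCat.ofHom q)) a
    refine RingHom.mem_ker.2 (h.symm.trans ?_)
    show (Scheme.ΓSpecIso _).hom ((Spec.map (CommRingCat.ofHom q)).app ⊤ a) = 0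
    exact (congrArg (Scheme.ΓSpecIso _).hom (RingHom.mem_ker.1 ha)).trans (map_zero (Scheme.ΓSpecIso _).hom.hom)
  refine (Scheme.ΓSpecIso (CommRingCat.of S)).commRingCatIsoToRingEquiv.injective ?_
  show (Scheme.ΓSpecIso (CommRingCat.of S)).hom (a * b) = (Scheme.ΓSpecIso (CommRingCat.of S)).hom 0
  rw [map_zero, map_mul]
  have := Ideal.mul_mem_mul (hmem a ha) (hmem b hb)
  rwa [hsq, Ideal.mem_bot] at this

section Step

attribute [local instance] M2.law

variable {X Y : Scheme.{u}}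

theorem pull_pow (i : Y ⟶ X) {M : X.Modules} (hM : PicF.IsInvertible M) (n : ℕ) :
    Nonempty ((Scheme.Modules.pullback i).obj (CohB1.tensorPow M n) ≅
      CohB1.tensorPow ((Scheme.Modules.pullback i).obj M) n) := by
  refine (PicGrp.cls_eq_cls_iff (PicLoc.isInvertible_pullback i (M2.isInvertible_tensorPow hM n))
    (M2.isInvertible_tensorPow (PicLoc.isInvertible_pullback i hM) n)).1 ?_
  rw [cls_tensorPow (PicLoc.isInvertible_pullback i hM) n,
    ← PicGrp.pullHom_cls i (M2.pullMul _) _ (M2.isInvertible_tensorPow hM n), cls_tensorPow hM n, map_pow,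
    PicGrp.pullHom_cls]

/-- A root on a square zero closed subscheme lifts, compatibly. -/
theorem exists_root_step (i : Y ⟶ X) [IsClosedImmersion i] [Surjective i] (hI : i.ker * i.ker = ⊥) {n : ℕ}
    (hn : IsUnit (n : Γ(X, ⊤))) {M : X.Modules} (hM : PicF.IsInvertible M) {L : Y.Modules}
    (hL : PicF.IsInvertible L) (e : Nonempty (CohB1.tensorPow L n ≅ (Scheme.Modules.pullback i).obj M)) :
    ∃ L' : X.Modules, PicF.IsInvertible L' ∧ Nonempty (CohB1.tensorPow L' n ≅ M) ∧
      Nonempty ((Scheme.Modules.pullback i).obj L' ≅ L) := by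
  obtain ⟨R, hR, eR⟩ := exists_root_lift' i hI hn hM hL e.some
  let φ := PicGrp.pullHom i (M2.pullMul _)
  have h1 : PicGrp.cls R hR ^ n = PicGrp.cls M hM := by
    rw [← cls_tensorPow hR n]; exact (PicGrp.cls_eq_cls_iff _ _).2 eR
  have h2 : PicGrp.cls L hL ^ n = φ (PicGrp.cls M hM) := by
    rw [← cls_tensorPow hL n, PicGrp.pullHom_cls]; exact (PicGrp.cls_eq_cls_iff _ _).2 e
  obtain ⟨T₀, hT₀, hT₀c⟩ := PicGrp.exists_eq_cls (PicGrp.cls L hL / φ (PicGrp.cls R hR))
  have hT₀n : PicGrp.cls T₀ hT₀ ^ n = 1 := by rw [← hT₀c, div_pow, h2, ← map_pow, h1, div_self']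
  rw [← cls_tensorPow hT₀ n, PicGrp.cls_eq_one_iff] at hT₀n
  have hnY : IsUnit (n : Γ(Y, ⊤)) := by simpa using hn.map i.appTop.hom
  obtain ⟨T, hT, eT, eTn⟩ := PicThick4.exists_lift i n hnY T₀ hT₀ hT₀n
  have h3 : PicGrp.cls T hT ^ n = 1 := by
    rw [← cls_tensorPow hT n, PicGrp.cls_eq_one_iff]; exact eTn
  have h4 : φ (PicGrp.cls T hT) = PicGrp.cls T₀ hT₀ := by
    rw [PicGrp.pullHom_cls]; exact (PicGrp.cls_eq_cls_iff _ _).2 eT
  obtain ⟨L', hL', hc⟩ := PicGrp.exists_eq_cls (PicGrp.cls R hR * PicGrp.cls T hT)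
  refine ⟨L', hL', (PicGrp.cls_eq_cls_iff (M2.isInvertible_tensorPow hL' n) hM).1 ?_,
    (PicGrp.cls_eq_cls_iff (PicLoc.isInvertible_pullback i hL') hL).1 ?_⟩
  · rw [cls_tensorPow hL' n, ← hc, mul_pow, h1, h3, mul_one]
  · rw [← PicGrp.pullHom_cls i (M2.pullMul _) L' hL', ← hc, map_mul, h4, ← hT₀c]
    exact mul_div_cancel _ _

end Step

section Global

variable {A : Type u} [CommRing A] [IsLocalRing A] [IsNoetherianRing A] [IsAdicComplete (maximalIdeal A) A]
  {X : Scheme.{u}} (f : X ⟶ Spec (CommRingCat.of A)) [IsProper f]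

/-- A compatible system of invertible modules on the thickenings of the closed fibre algebraizes. -/
theorem exists_algebraization (L : ∀ k, ((FSch.completionAlong X (idl f)).X k).Modules)
    (hL : ∀ k, PicF.IsInvertible (L k))
    (he : ∀ k, Nonempty ((Scheme.Modules.pullback ((FSch.completionAlong X (idl f)).ι k)).obj (L (k + 1)) ≅ L k)) :
    ∃ M : X.Modules, PicF.IsInvertible M ∧
      ∀ k, Nonempty ((Scheme.Modules.pullback (FSch.completionToX X (idl f) k)).obj M ≅ L k) := by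
  haveI : IsLocallyNoetherian X := LocallyOfFiniteType.isLocallyNoetherian f
  let m := maximalIdeal A
  let 𝓘 := idl f
  let 𝔛 := FSch.completionAlong X 𝓘
  letI : X.Over (Spec (CommRingCat.of A)) := ⟨f⟩
  haveI : IsProper (X ↘ Spec (CommRingCat.of A)) := ‹IsProper f›
  let 𝔐 : FSch.ModSys 𝔛 := ⟨L, fun k => (he k).some⟩
  have hM : 𝔐.IsCoh := fun k => CubeField.isCoh_of_isInvertible (hL k)
  have hform : 𝔛.IsFormal := (FormalH7.isFormal_isAdic_completionAlong X 𝓘).1
  have hS := GExistH7.isSys_gSys m 𝓘 rfl 𝔐 hM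
  obtain ⟨M, χ, hMc, hχ, hc⟩ := GExistH7.algAll_PS_main (X := X) m (GExistH7.gSys 𝓘 𝔐) hS
    (GExistH7.ps_sys hS ⟨M1.isClosed_support (hS.coh 0).2, inferInstance⟩)
  obtain ⟨e⟩ := GExistH7.nonempty_iso_complMod m 𝓘 rfl hform 𝔐 hMc.1 χ hχ fun k => by
    rw [← GExistH7.gm_ofOpSequence (GExistH7.trG 𝓘 𝔐) k]; exact hc k
  have el : ∀ k, (Scheme.Modules.pullback (FSch.completionToX X 𝓘 k)).obj M ≅ L k := fun k =>
    ⟨e.inv.app k, e.hom.app k, congrArg (fun φ : FSch.complMod 𝓘 M ⟶ FSch.complMod 𝓘 M => φ.app k) e.inv_hom_id,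
      congrArg (fun φ : 𝔐 ⟶ 𝔐 => φ.app k) e.hom_inv_id⟩
  exact ⟨M, (M2.isInvertible_iff_isFinLocFreeOfRank_one M).2
    (FormalH7.isFinLocFreeOfRank_of_thickenings hMc.1 𝓘 (FormalH7.exists_closure_mem_support m f)
      fun k => (M2.isInvertible_iff_isFinLocFreeOfRank_one _).1 (Twist.isInvertible_of_iso (el k).symm (hL k))),
    fun k => ⟨el k⟩⟩

attribute [local instance] M2.law in
/-- A root on the closed fibre lifts to a root. -/
theorem exists_root {n : ℕ} (hn : IsUnit (n : A)) {M : X.Modules} (hM : PicF.IsInvertible M)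
    {L₀ : (pullback f (Spec.map (CommRingCat.ofHom (residue A)))).Modules} (hL₀ : PicF.IsInvertible L₀)
    (e₀ : Nonempty (CohB1.tensorPow L₀ n ≅
      (Scheme.Modules.pullback (pullback.fst f (Spec.map (CommRingCat.ofHom (residue A))))).obj M)) :
    ∃ N : X.Modules, PicF.IsInvertible N ∧ Nonempty (CohB1.tensorPow N n ≅ M) ∧
      Nonempty ((Scheme.Modules.pullback (pullback.fst f (Spec.map (CommRingCat.ofHom (residue A))))).obj N ≅ L₀) := by
  let m := maximalIdeal A
  let 𝔛 := FSch.completionAlong X (idl f)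
  let q := FSch.completionToX X (idl f)
  choose fs hfs using exists_level f
  have hmono : ∀ k, Mono (spQ (m ^ k)) := fun k =>
    haveI : IsClosedImmersion (spQ (m ^ k)) := IsClosedImmersion.spec_of_surjective _ Ideal.Quotient.mk_surjective
    inferInstance
  have hι : ∀ k, 𝔛.ι k ≫ q (k + 1) = q k := FSch.completionToX_comm X (idl f)
  have hq : ∀ k, Spec.map (CommRingCat.ofHom (fac A (Nat.le_succ (k + 1)))) ≫ spQ (m ^ (k + 1 + 1)) =
      spQ (m ^ (k + 1)) := fun k => by
    rw [← Spec.map_comp]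
    exact congrArg Spec.map (CommRingCat.hom_ext (RingHom.ext fun _ => rfl))
  have hcart : ∀ k, IsPullback (𝔛.ι k) (fs k) (fs (k + 1))
      (Spec.map (CommRingCat.ofHom (fac A (Nat.le_succ (k + 1))))) := fun k => by
    refine IsPullback.of_right (h₁₂ := q (k + 1)) (h₂₂ := spQ (m ^ (k + 1 + 1))) (v₁₃ := f) ?_ ?_ (hfs (k + 1))
    · rw [hι, hq]; exact hfs k
    · haveI := hmono (k + 1 + 1)
      rw [← cancel_mono (spQ (m ^ (k + 1 + 1))), Category.assoc, Category.assoc, hq, ← (hfs (k + 1)).w,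
        ← Category.assoc, hι, (hfs k).w]
  have hunit : ∀ k, IsUnit (n : Γ(𝔛.X k, ⊤)) := fun k => by
    have h := ((hn.map (Scheme.ΓSpecIso (CommRingCat.of A)).inv.hom).map f.appTop.hom).map (q k).appTop.hom
    rwa [map_natCast, map_natCast, map_natCast] at h
  have hsq : ∀ k, RingHom.ker (fac A (Nat.le_succ (k + 1))) * RingHom.ker (fac A (Nat.le_succ (k + 1))) = ⊥ := by
    intro k
    refine le_bot_iff.1 (Ideal.mul_le.2 fun a ha b hb => ?_)
    obtain ⟨a, rfl⟩ := Ideal.Quotient.mk_surjective a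
    obtain ⟨b, rfl⟩ := Ideal.Quotient.mk_surjective b
    rw [← map_mul, Ideal.mem_bot, Ideal.Quotient.eq_zero_iff_mem]
    have h2 := Ideal.mul_mem_mul (Ideal.Quotient.eq_zero_iff_mem.1 (RingHom.mem_ker.1 ha))
      (Ideal.Quotient.eq_zero_iff_mem.1 (RingHom.mem_ker.1 hb))
    rw [← pow_add] at h2
    exact Ideal.pow_le_pow_right (by omega) h2
  have hcl : ∀ k, IsClosedImmersion (𝔛.ι k) := fun k => by
    haveI : IsClosedImmersion (Spec.map (CommRingCat.ofHom (fac A (Nat.le_succ (k + 1))))) :=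
      IsClosedImmersion.spec_of_surjective _ (fac_surjective A (Nat.le_succ (k + 1)))
    exact MorphismProperty.of_isPullback (P := @IsClosedImmersion) (hcart k).flip inferInstance
  have hsurj : ∀ k, Surjective (𝔛.ι k) := fun k => by
    haveI : Surjective (Spec.map (CommRingCat.ofHom (fac A (Nat.le_succ (k + 1))))) := ⟨fun x => by
      have h : (x : PrimeSpectrum _) ∈ Set.range (PrimeSpectrum.comap (fac A (Nat.le_succ (k + 1)))) := by
        rw [range_comap_of_surjective _ _ (fac_surjective A (Nat.le_succ (k + 1))), PrimeSpectrum.mem_zeroLocus]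
        intro a ha
        have h2 : a * a = 0 := by
          have := Ideal.mul_mem_mul ha ha
          rwa [hsq k, Ideal.mem_bot] at this
        exact x.isPrime.mem_or_mem (h2.symm ▸ x.asIdeal.zero_mem) |>.elim id id
      exact h⟩
    exact MorphismProperty.of_isPullback (P := @Surjective) (hcart k).flip inferInstance
  have hI : ∀ k, (𝔛.ι k).ker * (𝔛.ι k).ker = ⊥ := fun k => by
    haveI : IsClosedImmersion (Spec.map (CommRingCat.ofHom (fac A (Nat.le_succ (k + 1))))) :=
      IsClosedImmersion.spec_of_surjective _ (fac_surjective A (Nat.le_succ (k + 1)))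
    rw [ker_of_isPullback (hcart k), ← EffCartier.comap_mul, ker_specMap_sq _ (fac_surjective A (Nat.le_succ (k + 1))) (hsq k),
      Scheme.IdealSheafData.comap_bot]
  -- the closed fibre
  obtain ⟨t, ht⟩ := exists_iso_of_ker_eq (π := residue A) residue_surjective
    (π' := Ideal.Quotient.mk (m ^ (0 + 1))) Ideal.Quotient.mk_surjective
    (by rw [ker_residue, Ideal.mk_ker, zero_add, pow_one])
    (IsPullback.of_hasPullback f (Spec.map (CommRingCat.ofHom (residue A)))) (hfs 0)
  have ht' : t.inv ≫ pullback.fst f (Spec.map (CommRingCat.ofHom (residue A))) = q 0 := by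
    rw [← ht, Iso.inv_hom_id_assoc]
  let P := fun k => (Scheme.Modules.pullback (q k)).obj M
  let S : ∀ k : ℕ, {L : (𝔛.X k).Modules // PicF.IsInvertible L ∧ Nonempty (CohB1.tensorPow L n ≅ P k)} :=
    fun k => Nat.rec (motive := fun k => {L : (𝔛.X k).Modules // PicF.IsInvertible L ∧ Nonempty (CohB1.tensorPow L n ≅ P k)})
      ⟨(Scheme.Modules.pullback t.inv).obj L₀, PicLoc.isInvertible_pullback t.inv hL₀, by
        obtain ⟨e₀⟩ := e₀
        obtain ⟨a⟩ := pull_pow t.inv hL₀ n
        exact ⟨a.symm ≪≫ (Scheme.Modules.pullback t.inv).mapIso e₀ ≪≫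
          (Scheme.Modules.pullbackComp _ _).app M ≪≫ (Scheme.Modules.pullbackCongr ht').app M⟩⟩
      (fun k Q =>
        have h := haveI := hcl k; haveI := hsurj k
          exists_root_step (𝔛.ι k) (hI k) (hunit (k + 1)) (PicLoc.isInvertible_pullback (q (k + 1)) hM) Q.2.1
            (Q.2.2.map fun a => a ≪≫ ((Scheme.Modules.pullbackComp (𝔛.ι k) (q (k + 1))).app M ≪≫
              (Scheme.Modules.pullbackCongr (hι k)).app M).symm)
        ⟨h.choose, h.choose_spec.1, h.choose_spec.2.1⟩) k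
  have hcompat : ∀ k, Nonempty ((Scheme.Modules.pullback (𝔛.ι k)).obj (S (k + 1)).1 ≅ (S k).1) := fun k => by
    haveI := hcl k
    haveI := hsurj k
    exact (exists_root_step (𝔛.ι k) (hI k) (hunit (k + 1)) (PicLoc.isInvertible_pullback (q (k + 1)) hM) (S k).2.1
      ((S k).2.2.map fun a => a ≪≫ ((Scheme.Modules.pullbackComp (𝔛.ι k) (q (k + 1))).app M ≪≫
        (Scheme.Modules.pullbackCongr (hι k)).app M).symm)).choose_spec.2.2
  obtain ⟨N, hN, hel⟩ := exists_algebraization f (fun k => (S k).1) (fun k => (S k).2.1) hcompat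
  have h0 : Nonempty ((Scheme.Modules.pullback (pullback.fst f (Spec.map (CommRingCat.ofHom (residue A))))).obj N ≅
      L₀) := by
    obtain ⟨a⟩ := hel 0
    exact ⟨(Scheme.Modules.pullbackCongr ht.symm).app N ≪≫
      ((Scheme.Modules.pullbackComp t.hom (q 0)).app N).symm ≪≫ (Scheme.Modules.pullback t.hom).mapIso a ≪≫
      (Scheme.Modules.pullbackComp t.hom t.inv).app L₀ ≪≫ (Scheme.Modules.pullbackCongr t.hom_inv_id).app L₀ ≪≫
      (Scheme.Modules.pullbackId _).app L₀⟩
  refine ⟨N, hN, ?_, h0⟩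
  -- the power is `M`
  obtain ⟨D, hD, hDc⟩ := PicGrp.exists_eq_cls (PicGrp.cls N hN ^ n / PicGrp.cls M hM)
  letI : X.Over (Spec (CommRingCat.of A)) := ⟨f⟩
  haveI : IsProper (X ↘ Spec (CommRingCat.of A)) := ‹IsProper f›
  suffices hD1 : PicGrp.cls D hD = 1 by
    refine (PicGrp.cls_eq_cls_iff (M2.isInvertible_tensorPow hN n) hM).1 ?_
    rw [cls_tensorPow hN n]
    exact div_eq_one.1 (hDc.trans hD1)
  rw [PicGrp.cls_eq_one_iff]
  refine nonempty_iso_of_trivial_thickenings m le_rfl hD fun k => ?_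
  obtain ⟨τ, hτ⟩ := exists_iso_of_ker_eq (π := Ideal.Quotient.mk (m ^ (k + 1))) Ideal.Quotient.mk_surjective
    (π' := Ideal.Quotient.mk (m ^ (k + 1))) Ideal.Quotient.mk_surjective rfl
    (IsPullback.of_hasPullback f (spQ (m ^ (k + 1)))) (hfs k)
  refine (PicGrp.cls_eq_one_iff (PicLoc.isInvertible_pullback _ hD)).1 ?_
  rw [← PicGrp.pullHom_cls _ (M2.pullMul _) D hD, ← hDc, map_div, div_eq_one, map_pow]
  have key : ∀ (T : X.Modules) (hT : PicF.IsInvertible T),
      PicGrp.pullHom (iq f (m ^ (k + 1))) (M2.pullMul _) (PicGrp.cls T hT) =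
        PicGrp.pullHom τ.hom (M2.pullMul _) (PicGrp.cls _ (PicLoc.isInvertible_pullback (q k) hT)) := fun T hT => by
    rw [PicGrp.pullHom_cls, PicGrp.pullHom_cls, PicGrp.cls_eq_cls_iff]
    exact ⟨(Scheme.Modules.pullbackCongr hτ.symm).app T ≪≫ ((Scheme.Modules.pullbackComp τ.hom (q k)).app T).symm⟩
  show PicGrp.pullHom (iq f (m ^ (k + 1))) (M2.pullMul _) (PicGrp.cls N hN) ^ n =
    PicGrp.pullHom (iq f (m ^ (k + 1))) (M2.pullMul _) (PicGrp.cls M hM)
  rw [key N hN, key M hM, ← map_pow]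
  refine congrArg _ ?_
  rw [(PicGrp.cls_eq_cls_iff _ (S k).2.1).2 (hel k), ← cls_tensorPow (S k).2.1 n]
  exact (PicGrp.cls_eq_cls_iff _ _).2 (S k).2.2

end Global

end Groth.Agent.PicRoot32
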