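import Groth.Agent.Lib.PicRoot32.Main
import Groth.Agent.Lib.PicLift19.Main
import Groth.Agent.Lib.PicLift19.Hens
import Groth.Agent.Lib.MinModel32.Basic
import Groth.Agent.Lib.CurveR1_10.Basic
import Groth.Agent.Lib.TorsThick.Main
import Groth.Agent.Lib.ArInter.ModelInt

/-!
# The Picard group of a regular model over a complete DVR and of its closed fibre
-/

set_option autoImplicit false
set_option linter.style.haveILetI false
set_option backward.isDefEq.respectTransparency false

universe u

open CategoryTheory CategoryTheory.Limits AlgebraicGeometry IsLocalRing TopologicalSpace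

namespace Groth.Agent.PicRoot32

variable {R : Type u} [CommRing R] [IsDomain R] [IsDiscreteValuationRing R]
  {C X : Scheme.{u}} {fC : C ⟶ Spec (CommRingCat.of (FractionRing R))} {p : X ⟶ Spec (CommRingCat.of R)}

/-- A closed embedding missing the generic point of a scheme of dimension at most two has dimension at most one. -/
theorem dim_le_one {Z Y : Scheme.{u}} [IsIntegral Y] (h : RelMin.NoChain Y) (i : Z ⟶ Y) [IsPreimmersion i]
    (hη : ∀ z : Z, i z ≠ genericPoint Y) : topologicalKrullDim Z ≤ 1 := by
  refine iSup_le fun s => ?_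
  rcases le_or_gt s.length 1 with hs | hs
  · exact_mod_cast hs
  exfalso
  have hlt : ∀ a b : Fin (s.length + 1), a < b → i (s b).isIrreducible'.genericPoint ⤳ i (s a).isIrreducible'.genericPoint ∧
      i (s b).isIrreducible'.genericPoint ≠ i (s a).isIrreducible'.genericPoint := fun a b hab => by
    have ha := (s a).isIrreducible'.isGenericPoint_genericPoint (s a).isClosed'
    have hb := (s b).isIrreducible'.isGenericPoint_genericPoint (s b).isClosed'
    have hlt := s.strictMono hab
    refine ⟨(hb.specializes (hlt.le ha.mem)).map i.continuous, fun he => hlt.ne ?_⟩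
    refine IrreducibleCloseds.ext (ha.def.symm.trans ?_)
    rw [← i.isEmbedding.injective he]
    exact hb.def
  obtain ⟨h2, n2⟩ := hlt ⟨1, by omega⟩ ⟨2, by omega⟩ (by simp [Fin.lt_def])
  obtain ⟨h3, n3⟩ := hlt ⟨0, by omega⟩ ⟨1, by omega⟩ (by simp [Fin.lt_def])
  exact h (genericPoint Y) _ _ _ (genericPoint_specializes _) h2 h3 (fun e => hη _ e.symm) n2 n3

/-- Invertible modules on the closed fibre of a regular model over a complete DVR lift. -/
theorem exists_lift [IsAdicComplete (maximalIdeal R) R] (hC : Curve.IsSmoothProperCurve (FractionRing R) C fC)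
    (hX : Models.IsRegularProperModel R X p C fC)
    (L₀ : (pullback p (Spec.map (CommRingCat.ofHom (residue R)))).Modules) (hL₀ : PicF.IsInvertible L₀) :
    ∃ L : X.Modules, PicF.IsInvertible L ∧
      Nonempty ((Scheme.Modules.pullback (pullback.fst p (Spec.map (CommRingCat.ofHom (residue R))))).obj L ≅ L₀) := by
  haveI := hX.2.1
  haveI : HenselianRing R (maximalIdeal R) := inferInstance
  haveI : HenselianLocalRing R :=
    { is_henselian := fun h hm a ha hd =>
        HenselianRing.is_henselian (I := maximalIdeal R) h hm a ha (hd.map (Ideal.Quotient.mk _)) }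
  haveI := MinModel.isIntegral hC hX
  haveI := MinModel.isNoetherian hX
  let i := pullback.fst p (Spec.map (CommRingCat.ofHom (residue R)))
  haveI : IsClosedImmersion (Spec.map (CommRingCat.ofHom (residue R))) :=
    IsClosedImmersion.spec_of_surjective _ residue_surjective
  haveI : IsClosedImmersion i := MorphismProperty.pullback_fst (P := @IsClosedImmersion) _ _ inferInstance
  haveI : IsLocallyNoetherian (pullback p (Spec.map (CommRingCat.ofHom (residue R)))) :=
    LocallyOfFiniteType.isLocallyNoetherian i
  haveI : CompactSpace ↥(pullback p (Spec.map (CommRingCat.ofHom (residue R)))) :=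
    QuasiCompact.compactSpace_of_compactSpace i
  haveI : IsNoetherian (pullback p (Spec.map (CommRingCat.ofHom (residue R)))) := {}
  have hr : Set.range i = p.base ⁻¹' {closedPoint R} := ArInter.range_fst_fibre (X := Over.mk p)
  obtain ⟨g, hg⟩ := hX.1.2.2.2
  haveI := hC.2.2.1
  refine PicLift19.exists_lift i (dim_le_one (MinModel.noChain hC hX) i fun z hz => ?_) (fun Y hY hne hc => ?_) L₀ hL₀
  · have h1 : p (genericPoint X) = (closedPoint R : Spec (CommRingCat.of R)) :=
      (congrArg p hz).symm.trans (hr.le ⟨z, rfl⟩)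
    have h2 : p (genericPoint X) ⤳ p (g (genericPoint C)) := (genericPoint_specializes _).map p.continuous
    rw [h1] at h2
    have h3 := h2.mem_closed (isClosed_singleton_closedPoint R) rfl
    have hK := hg.w
    rw [← Scheme.Hom.comp_apply, hK, Scheme.Hom.comp_apply] at h3
    have h4 := congrArg PrimeSpectrum.asIdeal (Set.mem_singleton_iff.1 h3)
    have h5 : ∀ w : PrimeSpectrum (FractionRing R),
        Ideal.comap (algebraMap R (FractionRing R)) w.asIdeal = ⊥ := fun w => by
      rw [(Ideal.eq_bot_or_top w.asIdeal).resolve_right w.isPrime.ne_top]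
      exact Ideal.comap_bot_of_injective _ (IsFractionRing.injective R (FractionRing R))
    exact IsDiscreteValuationRing.not_a_field R (h4.symm.trans (h5 _))
  · rw [hr]
    exact PicLift19.inter_closedFibre_isConnected p Y hY hne hc

/-- Prime to characteristic torsion classes are detected on the closed fibre. -/
theorem trivial_of_fibre (hC : Curve.IsSmoothProperCurve (FractionRing R) C fC) (hH0 : IsIso fC.appTop)
    (hX : Models.IsRegularProperModel R X p C fC) (q : ℕ) (hqk : (q : ResidueField R) ≠ 0) {M : X.Modules}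
    (hM : PicF.IsInvertible M) (htors : Nonempty (CohB1.tensorPow M q ≅ Coh.structureModule X))
    (htriv : Nonempty ((Scheme.Modules.pullback (pullback.fst p (Spec.map (CommRingCat.ofHom (residue R))))).obj M ≅
      Coh.structureModule (pullback p (Spec.map (CommRingCat.ofHom (residue R)))))) :
    Nonempty (M ≅ Coh.structureModule X) := by
  refine TorsThick.trivial_of_redFibre hC hH0 hX q hqk hM htors ?_
  let K := Models.redFibreIdeal R (Over.mk p)
  let ι : K.subscheme ⟶ X := K.subschemeι
  have hrange : Set.range ι = Models.specialFibreSet R (Over.mk p) := by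
    show Set.range (Models.redFibreIdeal R (Over.mk p)).subschemeι = _
    rw [Scheme.IdealSheafData.range_subschemeι]
    exact Scheme.IdealSheafData.coe_support_vanishingIdeal _
  let i := pullback.fst p (Spec.map (CommRingCat.ofHom (residue R)))
  haveI : IsClosedImmersion (Spec.map (CommRingCat.ofHom (residue R))) :=
    IsClosedImmersion.spec_of_surjective _ residue_surjective
  haveI : IsClosedImmersion i := MorphismProperty.pullback_fst (P := @IsClosedImmersion) _ _ inferInstance
  have hle : i.ker ≤ ι.ker := by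
    show i.ker ≤ K.subschemeι.ker
    rw [Scheme.IdealSheafData.ker_subschemeι]
    show i.ker ≤ Scheme.IdealSheafData.vanishingIdeal _
    rw [← Scheme.IdealSheafData.le_support_iff_le_vanishingIdeal]
    show Models.specialFibreSet R (Over.mk p) ⊆ (i.ker.support : Set X)
    rw [Scheme.Hom.support_ker, ← ArInter.range_fst_fibre (X := Over.mk p)]
    exact subset_closure
  let l := IsClosedImmersion.lift i ι hle
  have hl : l ≫ i = ι := IsClosedImmersion.lift_fac _ _ _
  obtain ⟨e⟩ := htriv
  exact ⟨(Scheme.Modules.pullbackCongr hl.symm).app M ≪≫ ((Scheme.Modules.pullbackComp l i).app M).symm ≪≫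
    (Scheme.Modules.pullback l).mapIso e ≪≫ PicLoc.pullbackStructureIso l⟩

theorem isUnit_natCast {q : ℕ} (hqk : (q : ResidueField R) ≠ 0) : IsUnit (q : R) := by
  by_contra h
  exact hqk ((map_natCast (residue R) q).symm.trans ((residue_eq_zero_iff _).2 ((mem_maximalIdeal _).2 h)))

variable [PicGrp.Law X] [PicGrp.Law (pullback p (Spec.map (CommRingCat.ofHom (residue R))))]
  (hi : PicGrp.PullMul (pullback.fst p (Spec.map (CommRingCat.ofHom (residue R)))))

/-- A root of the restriction to the closed fibre lifts to exactly one root. -/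
theorem existsUnique_root [IsAdicComplete (maximalIdeal R) R] (hC : Curve.IsSmoothProperCurve (FractionRing R) C fC)
    (hH0 : IsIso fC.appTop) (hX : Models.IsRegularProperModel R X p C fC) (q : ℕ) (hqk : (q : ResidueField R) ≠ 0)
    (c : PicLoc.PicSet X) (d₀ : PicLoc.PicSet (pullback p (Spec.map (CommRingCat.ofHom (residue R)))))
    (hd₀ : d₀ ^ q = PicGrp.pullHom _ hi c) :
    ∃! d : PicLoc.PicSet X, d ^ q = c ∧ PicGrp.pullHom _ hi d = d₀ := by
  haveI := hX.2.1
  obtain ⟨M, hM, rfl⟩ := PicGrp.exists_eq_cls c
  obtain ⟨L₀, hL₀, rfl⟩ := PicGrp.exists_eq_cls d₀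
  obtain ⟨N, hN, eN, eN₀⟩ := exists_root p (isUnit_natCast hqk) hM hL₀ (by
    rw [← PicGrp.cl_eq_cl_iff, ← PicGrp.cls_pow_val hL₀, hd₀, PicGrp.pullHom_cls, PicGrp.cls_val])
  have h1 : PicGrp.cls N hN ^ q = PicGrp.cls M hM :=
    Subtype.ext ((PicGrp.cls_pow_val hN q).trans ((PicGrp.cl_eq_cl_iff _ _).2 eN))
  have h2 : PicGrp.pullHom _ hi (PicGrp.cls N hN) = PicGrp.cls L₀ hL₀ := by
    rw [PicGrp.pullHom_cls]; exact (PicGrp.cls_eq_cls_iff _ _).2 eN₀
  refine ⟨_, ⟨h1, h2⟩, fun d hd => ?_⟩
  rw [← div_eq_one]
  obtain ⟨D, hD, hDc⟩ := PicGrp.exists_eq_cls (d / PicGrp.cls N hN)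
  have hq1 : PicGrp.cls D hD ^ q = 1 := by rw [← hDc, div_pow, hd.1, h1, div_self']
  have hi1 : PicGrp.pullHom _ hi (PicGrp.cls D hD) = 1 := by rw [← hDc, map_div, hd.2, h2, div_self']
  rw [hDc, PicGrp.cls_eq_one_iff]
  refine trivial_of_fibre hC hH0 hX q hqk hD ?_ ?_
  · rw [← PicGrp.cl_eq_cl_iff, ← PicGrp.cls_pow_val hD, hq1, PicGrp.one_val]
  · rwa [PicGrp.pullHom_cls, PicGrp.cls_eq_one_iff] at hi1

end Groth.Agent.PicRoot32
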